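import Mathlib
import Cfsg.Agent.H616.TI.Defs
import Cfsg.Agent.CharactersDeep.QuatSylow
import Cfsg.Agent.OddOrderCharacters.Wielandt
import Cfsg.Agent.Lib.Cores
import Cfsg.Prelude.Def_IsolatedElements

/-!
# S4821, ZST (helper73): `C_P(P ⊓ L) ≤ L` in groups with TI Sylow `p`-subgroups

`main` : `GoalZst` from the `Z*`-theorem (statement of S1938).
-/

set_option autoImplicit false

universe u

namespace Cfsg.Agent.H73.TI.Zst

open Subgroup Cfsg
open Cfsg.Agent.H666.TI

/-- the statement of S1938 -/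
def ZStarAll : Prop := ∀ (G : Type u) [Group G] [Finite G] (p : ℕ) [Fact p.Prime] (S : Sylow p G) (x : G),
  x ∈ (S : Subgroup G) → (∀ g : G, g * x * g⁻¹ ∈ (S : Subgroup G) → g * x * g⁻¹ = x) → InZStar p x

variable {G : Type u} [Group G] [Finite G] {p : ℕ}

theorem mem_smul_iff {P : Sylow p G} {g x : G} : g * x * g⁻¹ ∈ g • P ↔ x ∈ P := by
  constructor
  · rintro ⟨s, hs, he⟩
    have h1 : g * s * g⁻¹ = g * x * g⁻¹ := he
    have h2 : s = x := mul_left_cancel (mul_right_cancel h1)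
    rw [← h2]
    exact hs
  · intro hx
    exact ⟨x, hx, rfl⟩

theorem mem_normalizer (hTI : IsTI p G) {P : Sylow p G} {g x : G} (hx : x ∈ P) (h1 : x ≠ 1)
    (hg : g * x * g⁻¹ ∈ P) : g ∈ normalizer ((P : Subgroup G) : Set G) := by
  have h2 : g * x * g⁻¹ ∈ g • P := mem_smul_iff.2 hx
  have h3 : g * x * g⁻¹ ≠ 1 := by
    intro h
    apply h1
    rwa [mul_inv_eq_one, mul_eq_left] at h
  have h4 := hTI.sylow_eq hg h2 h3
  exact Sylow.smul_eq_iff_mem_normalizer.1 h4.symm

/-- a `p`-subgroup meeting `P` nontrivially lies in `P` -/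
theorem le_of_mem (hTI : IsTI p G) {P : Sylow p G} {A : Subgroup G} (hA : IsPGroup p A) {x : G} (hx : x ∈ P)
    (h1 : x ≠ 1) (hxA : x ∈ A) : A ≤ P := by
  obtain ⟨Q, hQ⟩ := hA.exists_le_sylow
  rw [hTI.sylow_eq hx (hQ hxA) h1]
  exact hQ

theorem main (hZ : ZStarAll.{u}) : Cfsg.Agent.H616.TI.GoalZst.{u} := by
  intro G _ _ p hp hTI L hLn hLs hLc hC hpL P
  obtain ⟨R, hR⟩ : ∃ R : Subgroup G, R = (P : Subgroup G) ⊓ L := ⟨_, rfl⟩
  rw [← hR]
  have hRP : R ≤ (P : Subgroup G) := hR ▸ inf_le_left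
  have hRL : R ≤ L := hR ▸ inf_le_right
  have hRp : IsPGroup p R := P.isPGroup'.to_le hRP
  have hRi : ¬ p ∣ R.relIndex L := by
    rw [hR, inf_relIndex_right]
    exact CharactersDeep.QuatSylow.not_dvd_relIndex_of_normal P L
  have hR1 : ∃ x ∈ R, x ≠ 1 := by
    by_contra h
    push Not at h
    have h2 : R = ⊥ := (eq_bot_iff_forall R).2 h
    rw [h2, relIndex_bot_left] at hRi
    exact hRi hpL
  obtain ⟨r, hr, hr1⟩ := hR1
  -- the normalizer of `P` in `L`
  obtain ⟨NL, hNL⟩ : ∃ NL : Subgroup G, NL = L ⊓ normalizer ((P : Subgroup G) : Set G) := ⟨_, rfl⟩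
  have hRNL : R ≤ NL := by
    rw [hNL]
    exact le_inf hRL (hRP.trans le_normalizer)
  have hnR : NL ≤ normalizer (R : Set G) := by
    intro g hg
    rw [hNL] at hg
    refine Subgroup.mem_normalizer_iff.2 fun x => ?_
    rw [hR]
    refine and_congr (Subgroup.mem_normalizer_iff.1 hg.2 x) ?_
    constructor
    · intro h
      exact hLn.conj_mem x h g
    · intro h
      have h2 := hLn.conj_mem _ h g⁻¹
      have e : g⁻¹ * (g * x * g⁻¹) * g⁻¹⁻¹ = x := by group
      rwa [e] at h2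
  have hRn : (R.subgroupOf NL).Normal := by
    rw [Subgroup.normal_subgroupOf_iff_le_normalizer hRNL]
    exact hnR
  have hRi2 : ¬ p ∣ (R.subgroupOf NL).index := by
    intro h
    apply hRi
    have h2 : R.relIndex NL ∣ R.relIndex L := by
      have h3 : NL ≤ L := by rw [hNL]; exact inf_le_left
      rw [← Subgroup.relIndex_mul_relIndex R NL L hRNL h3]
      exact dvd_mul_right _ _
    exact h.trans h2
  have hcard : ∃ k, Nat.card (R.subgroupOf NL) = p ^ k := by
    have h2 : IsPGroup p (R.subgroupOf NL) := hRp.of_equiv (Subgroup.subgroupOfEquivOfLe hRNL).symm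
    exact IsPGroup.iff_card.1 h2
  have hcop : Nat.Coprime (Nat.card (R.subgroupOf NL)) (R.subgroupOf NL).index := by
    obtain ⟨k, hk⟩ := hcard
    rw [hk]
    exact Nat.Coprime.pow_left k ((Nat.Prime.coprime_iff_not_dvd hp.out).2 hRi2)
  obtain ⟨K, hK⟩ := Subgroup.exists_right_complement'_of_coprime hcop
  obtain ⟨A, hA⟩ : ∃ A : Subgroup G, A = K.map NL.subtype := ⟨_, rfl⟩
  have hANL : A ≤ NL := by rw [hA]; exact Subgroup.map_subtype_le K
  have hAc : ¬ p ∣ Nat.card A := by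
    have h2 : Nat.card A = (R.subgroupOf NL).index := by
      rw [hA, Nat.card_congr (K.equivMapOfInjective _ NL.subtype_injective).symm.toEquiv]
      have h3 := hK.card_mul
      have h4 := (R.subgroupOf NL).card_mul_index
      have h5 : 0 < Nat.card (R.subgroupOf NL) := Nat.card_pos
      exact Nat.eq_of_mul_eq_mul_left h5 (h3.trans h4.symm)
    rw [h2]
    exact hRi2
  have hRA : NL ≤ R ⊔ A := by
    have h2 := hK.sup_eq_top
    have h3 := congrArg (Subgroup.map NL.subtype) h2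
    rw [Subgroup.map_sup, ← hA, Subgroup.map_subgroupOf_eq_of_le hRNL, ← MonoidHom.range_eq_map,
      Subgroup.range_subtype] at h3
    exact h3.symm.le
  have hAP : A ≤ normalizer ((P : Subgroup G) : Set G) := hANL.trans (by rw [hNL]; exact inf_le_right)
  have hAR : A ≤ normalizer (R : Set G) := hANL.trans hnR
  have hACR : A ≤ normalizer ((centralizer (R : Set G) : Subgroup G) : Set G) := by
    intro a ha
    refine Subgroup.mem_normalizer_iff.2 fun x => ?_
    have key : ∀ b ∈ normalizer (R : Set G), ∀ x ∈ centralizer (R : Set G), b * x * b⁻¹ ∈ centralizer (R : Set G) := by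
      intro b hb x hx
      rw [Subgroup.mem_centralizer_iff] at hx ⊢
      intro y hy
      have h2 : b⁻¹ * y * b ∈ R := by
        have := (Subgroup.mem_normalizer_iff.1 (inv_mem hb) y).1 hy
        rwa [inv_inv] at this
      have h3 := hx _ h2
      calc y * (b * x * b⁻¹) = b * ((b⁻¹ * y * b) * x) * b⁻¹ := by group
        _ = b * (x * (b⁻¹ * y * b)) * b⁻¹ := by rw [h3]
        _ = b * x * b⁻¹ * y := by group
    constructor
    · exact key a (hAR ha) x
    · intro h
      have h2 := key a⁻¹ (inv_mem (hAR ha)) _ h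
      have e : a⁻¹ * (a * x * a⁻¹) * a⁻¹⁻¹ = x := by group
      rwa [e] at h2
  intro y hy
  -- an element of the coset centralising `A`
  have hcopAP : (Nat.card A).Coprime (Nat.card (P : Subgroup G)) := by
    obtain ⟨k, hk⟩ := IsPGroup.iff_card.1 P.isPGroup'
    rw [hk]
    exact (Nat.Coprime.pow_left k ((Nat.Prime.coprime_iff_not_dvd hp.out).2 hAc)).symm
  have hsolv : Group.IsSolvable (P : Subgroup G) := by
    have : Group.IsNilpotent (P : Subgroup G) := P.isPGroup'.isNilpotent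
    infer_instance
  obtain ⟨n, hn, hnc⟩ := OddOrderCharacters.Wielandt.exists_mem_centralizer A (P : Subgroup G)
    (R ⊓ centralizer (R : Set G)) hAP (by
      intro a ha
      refine Subgroup.mem_normalizer_iff.2 fun x => ?_
      exact and_congr (Subgroup.mem_normalizer_iff.1 (hAR ha) x) (Subgroup.mem_normalizer_iff.1 (hACR ha) x))
    (inf_le_left.trans hRP) hcopAP hsolv hy.1 (by
      intro a ha
      have h1 : a * y * a⁻¹ ∈ (P : Subgroup G) := (Subgroup.mem_normalizer_iff.1 (hAP ha) y).1 hy.1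
      have h2 : a * y * a⁻¹ ∈ centralizer (R : Set G) := (Subgroup.mem_normalizer_iff.1 (hACR ha) y).1 hy.2
      have haL : a ∈ L := by
        have := hANL ha
        rw [hNL] at this
        exact this.1
      refine Subgroup.mem_inf.2 ⟨?_, mul_mem h2 (inv_mem (Subgroup.mem_inf.1 hy).2)⟩
      rw [hR]
      refine Subgroup.mem_inf.2 ⟨mul_mem h1 (inv_mem (Subgroup.mem_inf.1 hy).1), ?_⟩
      have e : a * y * a⁻¹ * y⁻¹ = a * (y * a⁻¹ * y⁻¹) := by group
      rw [e]
      exact mul_mem haL (hLn.conj_mem _ (inv_mem haL) y))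
  obtain ⟨w, hw⟩ : ∃ w, w = n * y := ⟨_, rfl⟩
  rw [← hw] at hnc
  have hwP : w ∈ P := by
    rw [hw]
    exact mul_mem (hRP hn.1) hy.1
  have hwR : w ∈ centralizer (R : Set G) := by
    rw [hw]
    exact mul_mem hn.2 hy.2
  -- `w` centralises `N_L(P)`
  have hwN : ∀ g ∈ NL, g * w = w * g := by
    have h2 : NL ≤ centralizer {w} := by
      refine hRA.trans (sup_le ?_ ?_)
      · intro x hx
        rw [Subgroup.mem_centralizer_singleton_iff]
        exact (Subgroup.mem_centralizer_iff.1 hwR x hx)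
      · intro x hx
        rw [Subgroup.mem_centralizer_singleton_iff]
        exact (Subgroup.mem_centralizer_iff.1 hnc x hx)
    intro g hg
    exact Subgroup.mem_centralizer_singleton_iff.1 (h2 hg)
  by_cases hw1 : w = 1
  · have h2 : y = n⁻¹ := by
      rw [hw] at hw1
      exact (inv_eq_of_mul_eq_one_right hw1).symm
    rw [h2]
    exact inv_mem (hRL hn.1)
  exfalso
  apply hw1
  -- the group `Y = L ⟨w⟩`
  obtain ⟨Y, hY⟩ : ∃ Y : Subgroup G, Y = L ⊔ zpowers w := ⟨_, rfl⟩
  have hLY : L ≤ Y := by rw [hY]; exact le_sup_left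
  have hwY : w ∈ Y := by rw [hY]; exact mem_sup_right (mem_zpowers w)
  obtain ⟨S, hS⟩ := exists_sylow_mem (p := p) (x := (⟨w, hwY⟩ : Y))
    ((pElt_of_mem P.isPGroup' hwP).of_map Y.subtype Y.subtype_injective)
  have hSP : ∀ x ∈ S, (x : G) ∈ P := by
    have h2 : (S : Subgroup Y).map Y.subtype ≤ P :=
      le_of_mem hTI (S.isPGroup'.map Y.subtype) hwP hw1 ⟨_, hS, rfl⟩
    intro x hx
    exact h2 ⟨x, hx, rfl⟩
  have hiso := hZ Y p S ⟨w, hwY⟩ hS (by
    intro g hg
    have h2 : (g : G) * w * (g : G)⁻¹ ∈ P := hSP _ hg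
    have h3 : (g : G) ∈ L ⊔ zpowers w := by rw [← hY]; exact g.2
    rw [Subgroup.mem_sup_of_normal_left] at h3
    obtain ⟨l, hl, z, hz, he⟩ := h3
    obtain ⟨i, rfl⟩ := Subgroup.mem_zpowers_iff.1 hz
    have h4 : (g : G) * w * (g : G)⁻¹ = l * w * l⁻¹ := by
      rw [← he]
      group
    have h5 : l ∈ NL := by
      rw [hNL]
      refine ⟨hl, mem_normalizer hTI hwP hw1 ?_⟩
      rw [← h4]
      exact h2
    apply Subtype.ext
    show (g : G) * w * (g : G)⁻¹ = w
    rw [h4, hwN l h5]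
    group)
  -- `O_{p'}(Y) ∩ L = 1`
  have hQ : ((pPrimeCore p Y).map Y.subtype).subgroupOf L = ⊥ := by
    have hn : (((pPrimeCore p Y).map Y.subtype).subgroupOf L).Normal := by
      refine ⟨fun x hx g => ?_⟩
      rw [Subgroup.mem_subgroupOf] at hx ⊢
      obtain ⟨z, hz, he⟩ := hx
      refine ⟨⟨(g : G), hLY g.2⟩ * z * ⟨(g : G), hLY g.2⟩⁻¹, (Lib.Cores.pPrimeCore_normal p).conj_mem z hz _, ?_⟩
      show (g : G) * (z : G) * (g : G)⁻¹ = g * x * (g : G)⁻¹
      rw [show (z : G) = x from he]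
    rcases hLs.eq_bot_or_eq_top_of_normal _ hn with h | h
    · exact h
    · exfalso
      rw [Subgroup.subgroupOf_eq_top] at h
      have h2 := Subgroup.card_dvd_of_le h
      rw [Nat.card_congr ((pPrimeCore p Y).equivMapOfInjective _ Y.subtype_injective).symm.toEquiv] at h2
      have h3 := Lib.Cores.pPrimeCore_coprime (G := Y) p
      exact (Nat.Prime.coprime_iff_not_dvd hp.out).1 h3.symm (hpL.trans h2)
  have hwC : w ∈ centralizer (L : Set G) := by
    rw [Subgroup.mem_centralizer_iff]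
    intro l hl
    have h2 := hiso ⟨l, hLY hl⟩
    have h3 : l * w * l⁻¹ * w⁻¹ ∈ L := by
      have e : l * w * l⁻¹ * w⁻¹ = l * (w * l⁻¹ * w⁻¹) := by group
      rw [e]
      exact mul_mem hl (hLn.conj_mem _ (inv_mem hl) w)
    have h4 : (⟨l * w * l⁻¹ * w⁻¹, h3⟩ : L) ∈ ((pPrimeCore p Y).map Y.subtype).subgroupOf L :=
      Subgroup.mem_subgroupOf.2 ⟨_, h2, rfl⟩
    rw [hQ, Subgroup.mem_bot] at h4
    have h5 : l * w * l⁻¹ * w⁻¹ = 1 := congrArg Subtype.val h4
    have h6 := mul_inv_eq_one.1 h5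
    exact mul_inv_eq_iff_eq_mul.1 h6
  rw [hC] at hwC
  exact Subgroup.mem_bot.1 hwC

end Cfsg.Agent.H73.TI.Zst
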