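import Cfsg.Agent.H73.TI.Zst
import Cfsg.Agent.S1938

/-!
# S4821, ZST (helper73): the goal `GoalZst`, from S1938.
-/

set_option autoImplicit false

universe u

namespace Cfsg.Agent.H73.TI

theorem zst : Cfsg.Agent.H616.TI.GoalZst.{u} :=
  Zst.main fun _ _ _ _ _ S x hx h => Cfsg.Agent.S1938.result S x hx h

end Cfsg.Agent.H73.TI
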